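import Cfsg.Agent.H37.Tits.Ambient
import Cfsg.Agent.S0319

/-!
Simplicity of a group with a split Tits system.
-/
set_option autoImplicit false

namespace Cfsg.Agent.H37.Tits

variable {G W : Type*} [Group G] [Group W] (A : Ambient G W)

/-- The simplicity criterion. -/
theorem Ambient.isSimpleGroup {w₀ : W} (hne : A.U ≠ ⊥) (hw₀ : A.Uw w₀ = A.U)
    (hc : ∀ h ∈ A.H, (∀ u ∈ A.U, h * u = u * h) → h = 1)
    (hirr : ∀ J ⊆ A.S, J.Nonempty → (A.S \ J).Nonempty → ∃ s ∈ J, ∃ t ∈ A.S \ J, s * t ≠ t * s)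
    (hsolv : Group.IsSolvable A.B) (hperf : commutator G = ⊤) :
    IsSimpleGroup G ∧ ¬ IsMulCommutative G := by
  obtain ⟨⟨u, hu⟩, hu1⟩ := Subgroup.ne_bot_iff_exists_ne_one.1 hne
  haveI : Nontrivial G := ⟨⟨u, 1, fun e => hu1 (Subtype.ext e)⟩⟩
  refine ⟨Cfsg.Agent.S0319.result A.pair (A.pair_irreducible hirr) hsolv hperf
    (A.core_eq_bot hw₀ hc), fun hcomm => ?_⟩
  have h1 : commutator G = ⊥ := by
    rw [eq_bot_iff, commutator_def]
    exact Subgroup.commutator_le.2 fun a _ b _ => Subgroup.mem_bot.2 <|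
      commutatorElement_eq_one_iff_mul_comm.2 (hcomm.is_comm.comm a b)
  exact bot_ne_top (h1.symm.trans hperf)

end Cfsg.Agent.H37.Tits
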