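import Cfsg.Prelude.Def_LieExceptional
import Cfsg.Agent.H27.BNPair
import Cfsg.Agent.H37.NormalForm

/-!
A split Tits system given by a Bruhat normal form over an abstract group `W`: the `BNPair`,
normal forms of cells, trivial core.
-/
set_option autoImplicit false

namespace Cfsg.Agent.H37.Tits

open Cfsg.Agent.H27

/-- `g` lies in `(U H) n (U H)`. -/
def InCell {G : Type*} [Group G] (U H : Subgroup G) (n g : G) : Prop :=
  ∃ u ∈ U, ∃ h ∈ H, ∃ u' ∈ U, ∃ h' ∈ H, g = u * h * n * (u' * h')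

/-- A normal form with the properties of a split Tits system over `W` with generators `S`. -/
structure Ambient (G W : Type*) [Group G] [Group W] extends NormalForm G W where
  S : Set W
  closure_S : Subgroup.closure S = ⊤
  sq_S : ∀ s ∈ S, s * s = 1
  n_one : n 1 = 1
  n_mul : ∀ a b, ∃ h ∈ H, n a * n b = h * n (a * b)
  n_conj_H : ∀ w, ∀ h ∈ H, n w * h * (n w)⁻¹ ∈ H
  H_conj_U : ∀ h ∈ H, ∀ u ∈ U, h * u * h⁻¹ ∈ U
  Uw_le : ∀ w, Uw w ≤ U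
  Uw_one : Uw 1 = ⊥
  Uw_S_ne : ∀ s ∈ S, Uw s ≠ ⊥
  cell_step : ∀ s ∈ S, ∀ u ∈ U, ∀ w, InCell U H (n (s * w)) (n s * u * n w) ∨
    InCell U H (n w) (n s * u * n w)

variable {G W : Type*} [Group G] [Group W] (A : Ambient G W)

namespace Ambient

/-- The group `U H`. -/
def B : Subgroup G where
  carrier := {g | ∃ u ∈ A.U, ∃ h ∈ A.H, g = u * h}
  one_mem' := ⟨1, one_mem _, 1, one_mem _, by simp⟩
  mul_mem' := by
    rintro a b ⟨u, hu, h, hh, rfl⟩ ⟨u', hu', h', hh', rfl⟩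
    exact ⟨u * (h * u' * h⁻¹), mul_mem hu (A.H_conj_U h hh u' hu'), h * h', mul_mem hh hh',
      by group⟩
  inv_mem' := by
    rintro a ⟨u, hu, h, hh, rfl⟩
    exact ⟨h⁻¹ * u⁻¹ * (h⁻¹)⁻¹, A.H_conj_U h⁻¹ (inv_mem hh) u⁻¹ (inv_mem hu), h⁻¹, inv_mem hh,
      by group⟩

theorem B_eq_sup : A.B = A.U ⊔ A.H := by
  refine le_antisymm ?_ (sup_le (fun u hu => ⟨u, hu, 1, one_mem _, by simp⟩)
    fun h hh => ⟨1, one_mem _, h, hh, by simp⟩)
  rintro g ⟨u, hu, h, hh, rfl⟩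
  exact mul_mem (Subgroup.mem_sup_left hu) (Subgroup.mem_sup_right hh)

theorem U_le_B : A.U ≤ A.B := fun u hu => ⟨u, hu, 1, one_mem _, by simp⟩

theorem H_le_B : A.H ≤ A.B := fun h hh => ⟨1, one_mem _, h, hh, by simp⟩

theorem n_inv (w : W) : ∃ h ∈ A.H, (A.n w)⁻¹ = h * A.n w⁻¹ := by
  obtain ⟨k, hk, e⟩ := A.n_mul w⁻¹ w
  rw [inv_mul_cancel, A.n_one, mul_one] at e
  refine ⟨k⁻¹, inv_mem hk, ?_⟩
  rw [← e]; group

theorem n_conj_H' (w : W) {h : G} (hh : h ∈ A.H) : (A.n w)⁻¹ * h * A.n w ∈ A.H := by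
  obtain ⟨k, hk, e⟩ := A.n_inv w
  have : (A.n w)⁻¹ * h * A.n w = k * (A.n w⁻¹ * h * (A.n w⁻¹)⁻¹) * k⁻¹ := by
    conv_lhs => rw [show A.n w = ((A.n w)⁻¹)⁻¹ from (inv_inv _).symm, e]
    group
  rw [this]
  exact mul_mem (mul_mem hk (A.n_conj_H _ h hh)) (inv_mem hk)

/-- The group generated by `H` and the representatives. -/
def N : Subgroup G where
  carrier := {g | ∃ h ∈ A.H, ∃ w, g = h * A.n w}
  one_mem' := ⟨1, one_mem _, 1, by simp [A.n_one]⟩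
  mul_mem' := by
    rintro a b ⟨h, hh, w, rfl⟩ ⟨h', hh', w', rfl⟩
    obtain ⟨k, hk, e⟩ := A.n_mul w w'
    refine ⟨h * (A.n w * h' * (A.n w)⁻¹) * k, mul_mem (mul_mem hh (A.n_conj_H w h' hh')) hk,
      w * w', ?_⟩
    rw [show h * A.n w * (h' * A.n w') = h * (A.n w * h' * (A.n w)⁻¹) * (A.n w * A.n w') by group,
      e]
    group
  inv_mem' := by
    rintro a ⟨h, hh, w, rfl⟩
    obtain ⟨k, hk, e⟩ := A.n_inv w
    refine ⟨(A.n w)⁻¹ * h⁻¹ * A.n w * k, mul_mem (A.n_conj_H' w (inv_mem hh)) hk, w⁻¹, ?_⟩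
    rw [mul_inv_rev, mul_assoc _ k, ← e]
    group

theorem n_mem_N (w : W) : A.n w ∈ A.N := ⟨1, one_mem _, w, by simp⟩

theorem H_le_N : A.H ≤ A.N := fun h hh => ⟨h, hh, 1, by simp [A.n_one]⟩

theorem eq_one_of_n_mem_B {w : W} (h : A.n w ∈ A.B) : w = 1 := by
  obtain ⟨u, hu, k, hk, e⟩ := h
  exact (A.unique (one_mem _) hu (one_mem _) hk (one_mem (A.Uw w)) (one_mem (A.Uw 1))
    (show 1 * 1 * A.n w * 1 = u * k * A.n 1 * 1 by simp [A.n_one, e])).1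

theorem B_inf_N : A.B ⊓ A.N = A.H := by
  refine le_antisymm ?_ (le_inf A.H_le_B A.H_le_N)
  rintro g ⟨hB, h, hh, w, rfl⟩
  have : A.n w ∈ A.B := by
    have := mul_mem (inv_mem (A.H_le_B hh)) hB
    rwa [inv_mul_cancel_left] at this
  rw [A.eq_one_of_n_mem_B this, A.n_one, mul_one]
  exact hh

theorem n_inj_B {a b : W} (h : (A.n a)⁻¹ * A.n b ∈ A.B) : a = b := by
  obtain ⟨k, hk, e⟩ := A.n_inv a
  obtain ⟨k', hk', e'⟩ := A.n_mul a⁻¹ b
  rw [e, mul_assoc, e', ← mul_assoc] at h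
  have : A.n (a⁻¹ * b) ∈ A.B := by
    have := mul_mem (inv_mem (A.H_le_B (mul_mem hk hk'))) h
    rwa [inv_mul_cancel_left] at this
  exact inv_mul_eq_one.1 (A.eq_one_of_n_mem_B this)

theorem inCell_iff {n g : G} : InCell A.U A.H n g ↔ ∃ b ∈ A.B, ∃ c ∈ A.B, g = b * n * c := by
  constructor
  · rintro ⟨u, hu, h, hh, u', hu', h', hh', rfl⟩
    exact ⟨u * h, ⟨u, hu, h, hh, rfl⟩, u' * h', ⟨u', hu', h', hh', rfl⟩, rfl⟩
  · rintro ⟨b, ⟨u, hu, h, hh, rfl⟩, c, ⟨u', hu', h', hh', rfl⟩, rfl⟩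
    exact ⟨u, hu, h, hh, u', hu', h', hh', rfl⟩

/-- The cell axiom with arbitrary elements of `B`. -/
theorem step {s : W} (hs : s ∈ A.S) (w : W) {b : G} (hb : b ∈ A.B) :
    InCell A.U A.H (A.n (s * w)) (A.n s * b * A.n w) ∨
      InCell A.U A.H (A.n w) (A.n s * b * A.n w) := by
  obtain ⟨u, hu, h, hh, rfl⟩ := hb
  have e : A.n s * (u * h) * A.n w = A.n s * u * A.n w * ((A.n w)⁻¹ * h * A.n w) := by group
  rw [e]
  have hk := A.n_conj_H' w hh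
  rcases A.cell_step s hs u hu w with h1 | h1 <;> [left; right] <;>
  · rw [inCell_iff] at h1 ⊢
    obtain ⟨b, hb, c, hc, e1⟩ := h1
    exact ⟨b, hb, c * _, mul_mem hc (A.H_le_B hk), by rw [e1]; group⟩

theorem exists_N (g : G) : g ∈ A.B ⊔ A.N := by
  obtain ⟨u, hu, h, hh, w, v, hv, rfl⟩ := A.exists_eq g
  exact mul_mem (mul_mem (mul_mem (Subgroup.mem_sup_left (A.U_le_B hu))
    (Subgroup.mem_sup_left (A.H_le_B hh))) (Subgroup.mem_sup_right (A.n_mem_N w)))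
    (Subgroup.mem_sup_left (A.U_le_B (A.Uw_le w hv)))

theorem S_inv {s : W} (hs : s ∈ A.S) : s⁻¹ = s := inv_eq_of_mul_eq_one_right (A.sq_S s hs)

/-- The Tits system. -/
def pair : Cfsg.BNPair G where
  B := A.B
  N := A.N
  S := A.n '' A.S
  sup_eq_top := eq_top_iff.2 fun g _ => A.exists_N g
  conj_mem := by
    intro n hn t ht
    rw [A.B_inf_N] at ht
    obtain ⟨h, hh, w, rfl⟩ := hn
    refine A.H_le_B ?_
    rw [show h * A.n w * t * (h * A.n w)⁻¹ = h * (A.n w * t * (A.n w)⁻¹) * h⁻¹ by group]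
    exact mul_mem (mul_mem hh (A.n_conj_H w t ht)) (inv_mem hh)
  subset := by rintro _ ⟨w, -, rfl⟩; exact A.n_mem_N w
  sq_mem := by
    rintro _ ⟨s, hs, rfl⟩
    obtain ⟨h, hh, e⟩ := A.n_mul s s
    rw [e, A.sq_S s hs, A.n_one, mul_one]
    exact A.H_le_B hh
  inj := by
    rintro _ ⟨s, -, rfl⟩ _ ⟨t, -, rfl⟩ h
    rw [A.n_inj_B h]
  closure_sup := by
    refine le_antisymm (sup_le ((Subgroup.closure_le _).2 ?_) inf_le_right) ?_
    · rintro _ ⟨w, -, rfl⟩; exact A.n_mem_N w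
    have hH : A.H ≤ Subgroup.closure (A.n '' A.S) ⊔ A.B ⊓ A.N :=
      le_trans A.B_inf_N.ge le_sup_right
    have hw : ∀ w, A.n w ∈ Subgroup.closure (A.n '' A.S) ⊔ A.B ⊓ A.N := by
      intro w
      have hmem : w ∈ Subgroup.closure A.S := by rw [A.closure_S]; exact Subgroup.mem_top w
      induction hmem using Subgroup.closure_induction with
      | mem s hs => exact Subgroup.mem_sup_left (Subgroup.subset_closure ⟨s, hs, rfl⟩)
      | one => rw [A.n_one]; exact one_mem _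
      | mul a b _ _ iha ihb =>
          obtain ⟨h, hh, e⟩ := A.n_mul a b
          have : A.n (a * b) = h⁻¹ * (A.n a * A.n b) := by rw [e]; group
          rw [this]
          exact mul_mem (hH (inv_mem hh)) (mul_mem iha ihb)
      | inv a _ iha =>
          obtain ⟨h, hh, e⟩ := A.n_inv a
          have : A.n a⁻¹ = h⁻¹ * (A.n a)⁻¹ := by rw [e]; group
          rw [this]
          exact mul_mem (hH (inv_mem hh)) (inv_mem iha)
    rintro g ⟨h, hh, w, rfl⟩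
    exact mul_mem (hH hh) (hw w)
  mul_mem_union := by
    rintro _ ⟨s, hs, rfl⟩ n ⟨h, hh, w, rfl⟩ b hb
    have e : A.n s * b * (h * A.n w) = A.n s * (b * h) * A.n w := by group
    obtain ⟨k, hk, e'⟩ := A.n_mul s w
    have hk1 : k⁻¹ * (A.n s * h⁻¹ * (A.n s)⁻¹) ∈ A.H :=
      mul_mem (inv_mem hk) (A.n_conj_H s _ (inv_mem hh))
    rcases A.step hs w (mul_mem hb (A.H_le_B hh)) with h1 | h1
    · left
      rw [e, DoubleCoset.mem_doubleCoset]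
      rw [inCell_iff] at h1
      obtain ⟨x, hx, y, hy, e1⟩ := h1
      refine ⟨x * (k⁻¹ * (A.n s * h⁻¹ * (A.n s)⁻¹)), mul_mem hx (A.H_le_B hk1), y, hy, ?_⟩
      rw [e1, show A.n (s * w) = k⁻¹ * (A.n s * A.n w) by rw [e']; group]
      group
    · right
      rw [e, DoubleCoset.mem_doubleCoset]
      rw [inCell_iff] at h1
      obtain ⟨x, hx, y, hy, e1⟩ := h1
      refine ⟨x * h⁻¹, mul_mem hx (A.H_le_B (inv_mem hh)), y, hy, ?_⟩
      rw [e1]; group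
  conj_ne := by
    rintro _ ⟨s, hs, rfl⟩ h
    obtain ⟨v, hv, hv1⟩ := (Subgroup.ne_bot_iff_exists_ne_one.1 (A.Uw_S_ne s hs)) |>
      fun ⟨x, hx⟩ => (⟨x.1, x.2, fun e => hx (Subtype.ext e)⟩ : ∃ v ∈ A.Uw s, v ≠ 1)
    have : A.n s * v * A.n s ∈ (A.B : Set G) := h ▸ ⟨v, A.U_le_B (A.Uw_le s hv), rfl⟩
    obtain ⟨u, hu, k, hk, e⟩ := this
    obtain ⟨j, hj, ej⟩ := A.n_inv s
    rw [A.S_inv hs] at ej
    have e' : A.n s * v = u * (k * j) * A.n s := by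
      rw [mul_assoc u, mul_assoc k, ← ej, ← mul_assoc, ← e, mul_inv_cancel_right]
    exact hv1 (A.unique (one_mem _) hu (one_mem _) (mul_mem hk hj) hv (one_mem _)
      (show 1 * 1 * A.n s * v = u * (k * j) * A.n s * 1 by simpa using e')).2.2.2

theorem pair_B : A.pair.B = A.B := rfl
theorem pair_N : A.pair.N = A.N := rfl

/-- Irreducibility from non-commuting generators. -/
theorem pair_irreducible
    (h : ∀ J ⊆ A.S, J.Nonempty → (A.S \ J).Nonempty → ∃ s ∈ J, ∃ t ∈ A.S \ J, s * t ≠ t * s) :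
    A.pair.Irreducible := by
  intro J hJ hne hne'
  obtain ⟨j, hj⟩ := hne
  obtain ⟨x, hx, hxJ⟩ := hne'
  obtain ⟨s, hs, rfl⟩ := hJ hj
  obtain ⟨t, ht, rfl⟩ := hx
  obtain ⟨a, ⟨ha, haJ⟩, b, ⟨hb, hbJ⟩, hab⟩ := h {s ∈ A.S | A.n s ∈ J} (fun _ h => h.1) ⟨s, hs, hj⟩
    ⟨t, ht, fun h' => hxJ h'.2⟩
  refine ⟨A.n a, haJ, A.n b, ⟨⟨b, hb, rfl⟩, fun h' => hbJ ⟨hb, h'⟩⟩, fun hB => hab ?_⟩
  have hN : A.n a * A.n b * (A.n a)⁻¹ * (A.n b)⁻¹ ∈ A.N :=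
    mul_mem (mul_mem (mul_mem (A.n_mem_N a) (A.n_mem_N b)) (inv_mem (A.n_mem_N a)))
      (inv_mem (A.n_mem_N b))
  have hH : A.n a * A.n b * (A.n a)⁻¹ * (A.n b)⁻¹ ∈ A.H := A.B_inf_N.le ⟨hB, hN⟩
  obtain ⟨k₁, hk₁, e₁⟩ := A.n_mul a b
  obtain ⟨k₂, hk₂, e₂⟩ := A.n_mul b a
  have e : A.n a * A.n b * (A.n a)⁻¹ * (A.n b)⁻¹ = k₁ * A.n (a * b) * (A.n (b * a))⁻¹ * k₂⁻¹ := by
    rw [mul_assoc (A.n a * A.n b), ← mul_inv_rev, e₁, e₂]; group
  rw [e] at hH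
  have hm : A.n (a * b) * (A.n (b * a))⁻¹ ∈ A.H := by
    have := mul_mem (mul_mem (inv_mem hk₁) hH) hk₂
    simpa [mul_assoc] using this
  exact (A.n_inj_B (A.H_le_B (by
    have := A.n_conj_H' (b * a) hm
    simpa [mul_assoc] using this))).symm

theorem mem_cell_of_inCell {w : W} {g : G} (h : InCell A.U A.H (A.n w) g) :
    g ∈ BN.cell A.pair (A.n w) := by
  rw [inCell_iff] at h
  exact (BN.mem_cell A.pair).2 h

theorem mem_cell_nf {u h v : G} {w : W} (hu : u ∈ A.U) (hh : h ∈ A.H) (hv : v ∈ A.Uw w) :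
    u * h * A.n w * v ∈ BN.cell A.pair (A.n w) :=
  (BN.mem_cell A.pair).2 ⟨u * h, ⟨u, hu, h, hh, rfl⟩, v, A.U_le_B (A.Uw_le w hv), rfl⟩

/-- The index of the normal form is the cell. -/
theorem index_eq {u h v : G} {w w' : W} (hu : u ∈ A.U) (hh : h ∈ A.H) (hv : v ∈ A.Uw w')
    (hc : InCell A.U A.H (A.n w) (u * h * A.n w' * v)) : w' = w :=
  A.n_inj_B (BN.eqv_of_mem_cells A.pair (A.n_mem_N w') (A.n_mem_N w) (A.mem_cell_nf hu hh hv)
    (A.mem_cell_of_inCell hc))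

/-- The core of `B` is trivial when some `Uw` is all of `U` and `U` sees all of `H`. -/
theorem core_eq_bot {w₀ : W} (hw₀ : A.Uw w₀ = A.U)
    (hc : ∀ h ∈ A.H, (∀ u ∈ A.U, h * u = u * h) → h = 1) : A.B.normalCore = ⊥ := by
  have hle : ∀ g ∈ A.B.normalCore, g ∈ A.H := by
    intro g hg
    obtain ⟨u, hu, h, hh, rfl⟩ := A.B.normalCore_le hg
    obtain ⟨x, hx, k, hk, e⟩ : A.n w₀ * (u * h) * (A.n w₀)⁻¹ ∈ A.B :=
      A.B.normalCore_le ((A.B.normalCore_normal).conj_mem _ hg (A.n w₀))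
    have e' : A.n w₀ * u = x * (k * (A.n w₀ * h⁻¹ * (A.n w₀)⁻¹)) * A.n w₀ := by
      calc A.n w₀ * u = A.n w₀ * (u * h) * (A.n w₀)⁻¹ * (A.n w₀ * h⁻¹ * (A.n w₀)⁻¹) * A.n w₀ := by
            group
        _ = _ := by rw [e]; group
    have hu1 := (A.unique (one_mem _) hx (one_mem _)
      (mul_mem hk (A.n_conj_H w₀ _ (inv_mem hh))) (hw₀.symm ▸ hu : u ∈ A.Uw w₀) (one_mem _)
      (show 1 * 1 * A.n w₀ * u = x * (k * (A.n w₀ * h⁻¹ * (A.n w₀)⁻¹)) * A.n w₀ * 1 by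
        simpa using e')).2.2.2
    rw [hu1, one_mul]
    exact hh
  rw [eq_bot_iff]
  intro g hg
  refine Subgroup.mem_bot.2 (hc g (hle g hg) fun u hu => ?_)
  have hk : u⁻¹ * g * u ∈ A.H := hle _ (by
    simpa using (A.B.normalCore_normal).conj_mem _ hg u⁻¹)
  have e : g * u * g⁻¹ = u * ((u⁻¹ * g * u) * g⁻¹) := by group
  have hmem : (u⁻¹ * g * u) * g⁻¹ ∈ A.U := by
    rw [show (u⁻¹ * g * u) * g⁻¹ = u⁻¹ * (g * u * g⁻¹) by group]
    exact mul_mem (inv_mem hu) (A.H_conj_U g (hle g hg) u hu)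
  have h1 := (A.unique hmem (one_mem _) (one_mem _) (mul_mem hk (inv_mem (hle g hg)))
    (one_mem (A.Uw 1)) (one_mem (A.Uw 1))
    (show (u⁻¹ * g * u) * g⁻¹ * 1 * A.n 1 * 1 = 1 * ((u⁻¹ * g * u) * g⁻¹) * A.n 1 * 1 by
      simp [A.n_one])).2.1
  calc g * u = u * ((u⁻¹ * g * u) * g⁻¹) * g := by group
    _ = u * g := by rw [h1, mul_one]

end Ambient

end Cfsg.Agent.H37.Tits
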