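import Cfsg.Agent.H37.Tits.Ambient

/-!
The split Tits system on the fixed points of an endomorphism compatible with the normal form.
-/
set_option autoImplicit false

namespace Cfsg.Agent.H37.Tits

open NormalForm

variable {G W W' : Type*} [Group G] [Group W] [Group W'] {A : Ambient G W}

/-- `x ∈ B n_(c w) B` for some `c` generated by the letters of `L`. -/
theorem Ambient.mul_cell_mem (A : Ambient G W) :
    ∀ (L : List W), (∀ s ∈ L, s ∈ A.S) → ∀ (w : W) {b : G}, b ∈ A.B →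
      ∃ c ∈ Subgroup.closure {x | x ∈ L}, InCell A.U A.H (A.n (c * w)) (A.n L.prod * b * A.n w)
  | [], _, w, b, hb => ⟨1, one_mem _, by
      rw [one_mul, List.prod_nil, A.n_one, one_mul, Ambient.inCell_iff]
      exact ⟨b, hb, 1, one_mem _, by group⟩⟩
  | s :: L, hL, w, b, hb => by
      obtain ⟨c, hc, hcell⟩ := A.mul_cell_mem L (fun t ht => hL t (by simp [ht])) w hb
      obtain ⟨x, hx, y, hy, e⟩ := A.inCell_iff.1 hcell
      obtain ⟨k, hk, ek⟩ := A.n_mul s L.prod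
      have hle : Subgroup.closure {x | x ∈ L} ≤ Subgroup.closure {x | x ∈ s :: L} :=
        Subgroup.closure_mono fun t ht => List.mem_cons_of_mem s ht
      have e' : A.n (s :: L).prod * b * A.n w = k⁻¹ * (A.n s * x * A.n (c * w)) * y := by
        rw [List.prod_cons, show A.n (s * L.prod) = k⁻¹ * (A.n s * A.n L.prod) by rw [ek]; group,
          show A.n s * x * A.n (c * w) = A.n s * (x * A.n (c * w) * y) * y⁻¹ by group, ← e]
        group
      rcases A.step (hL s (by simp)) (c * w) hx with h1 | h1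
      · refine ⟨s * c, mul_mem (Subgroup.subset_closure (List.mem_cons_self ..)) (hle hc), ?_⟩
        rw [e', mul_assoc s, Ambient.inCell_iff]
        obtain ⟨x', hx', y', hy', e1⟩ := A.inCell_iff.1 h1
        exact ⟨k⁻¹ * x', mul_mem (A.H_le_B (inv_mem hk)) hx', y' * y, mul_mem hy' hy,
          by rw [e1]; group⟩
      · refine ⟨c, hle hc, ?_⟩
        rw [e', Ambient.inCell_iff]
        obtain ⟨x', hx', y', hy', e1⟩ := A.inCell_iff.1 h1
        exact ⟨k⁻¹ * x', mul_mem (A.H_le_B (inv_mem hk)) hx', y' * y, mul_mem hy' hy,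
          by rw [e1]; group⟩

/-- Data cutting out the fixed points of `σ` as a split Tits system over `W'`. -/
structure Folding (A : Ambient G W) (σ : G →* G) (W' : Type*) [Group W'] where
  compat : A.toNormalForm.Compat σ
  τ_mul : ∀ a b, compat.τ (a * b) = compat.τ a * compat.τ b
  ι : W' →* W
  ι_inj : Function.Injective ι
  ι_range : ∀ w, compat.τ w = w ↔ w ∈ ι.range
  S : Set W'
  closure_S : Subgroup.closure S = ⊤
  sq_S : ∀ s ∈ S, s * s = 1
  orbit : ∀ s ∈ S, ∃ L : List W, (∀ x ∈ L, x ∈ A.S) ∧ L.prod = ι s ∧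
    ∀ c ∈ Subgroup.closure {x | x ∈ L}, compat.τ c = c → c = 1 ∨ c = ι s
  Uw_ne : ∀ s ∈ S, ∃ v ∈ A.Uw (ι s), σ v = v ∧ v ≠ 1

namespace Folding

variable {σ : G →* G} (Φ : Folding A σ W')

theorem τ_ι (a : W') : Φ.compat.τ (Φ.ι a) = Φ.ι a := (Φ.ι_range _).2 ⟨a, rfl⟩

/-- The normal form on the fixed points, indexed by `W'`. -/
noncomputable def nf : NormalForm ↥(fixedPts σ) W' where
  U := A.U.subgroupOf _
  H := A.H.subgroupOf _
  n a := ⟨A.n (Φ.ι a), Φ.compat.n_fixed (Φ.τ_ι a)⟩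
  Uw a := (A.Uw (Φ.ι a)).subgroupOf _
  exists_eq := by
    rintro ⟨g, hg⟩
    obtain ⟨u, hu, h, hh, w, v, hv, rfl⟩ := A.exists_eq g
    obtain ⟨h1, h2, h3, h4⟩ := (Φ.compat.fixed_iff hu hh hv).1 hg
    obtain ⟨a, rfl⟩ := (Φ.ι_range w).1 h1
    exact ⟨⟨u, h2⟩, hu, ⟨h, h3⟩, hh, a, ⟨v, h4⟩, hv, Subtype.ext rfl⟩
  unique := by
    intro u u' h h' v v' a a' hu hu' hh hh' hv hv' he
    obtain ⟨h1, h2, h3, h4⟩ := A.unique hu hu' hh hh' hv hv' (congrArg Subtype.val he)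
    exact ⟨Φ.ι_inj h1, Subtype.ext h2, Subtype.ext h3, Subtype.ext h4⟩

/-- The split Tits system on the fixed points. -/
noncomputable def ambient : Ambient ↥(fixedPts σ) W' where
  toNormalForm := Φ.nf
  S := Φ.S
  closure_S := Φ.closure_S
  sq_S := Φ.sq_S
  n_one := Subtype.ext (by simp [nf, A.n_one])
  n_mul a b := by
    obtain ⟨h, hh, e⟩ := A.n_mul (Φ.ι a) (Φ.ι b)
    rw [← map_mul] at e
    have hfix : σ h = h := by
      have e' : h = A.n (Φ.ι a) * A.n (Φ.ι b) * (A.n (Φ.ι (a * b)))⁻¹ := by rw [e]; group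
      rw [e', map_mul, map_mul, map_inv, Φ.compat.n_fixed (Φ.τ_ι a), Φ.compat.n_fixed (Φ.τ_ι b),
        Φ.compat.n_fixed (Φ.τ_ι (a * b))]
    exact ⟨⟨h, hfix⟩, hh, Subtype.ext e⟩
  n_conj_H a h hh := A.n_conj_H (Φ.ι a) h hh
  H_conj_U h hh u hu := A.H_conj_U h hh u hu
  Uw_le a v hv := A.Uw_le (Φ.ι a) hv
  Uw_one := by
    show (A.Uw (Φ.ι 1)).subgroupOf _ = ⊥
    rw [map_one, A.Uw_one]
    exact Subgroup.bot_subgroupOf _
  Uw_S_ne s hs := by
    obtain ⟨v, hv, hfix, hne⟩ := Φ.Uw_ne s hs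
    intro hbot
    have : (⟨v, hfix⟩ : ↥(fixedPts σ)) ∈ (⊥ : Subgroup ↥(fixedPts σ)) := hbot ▸ hv
    exact hne (congrArg Subtype.val (Subgroup.mem_bot.1 this))
  cell_step s hs u hu a := by
    obtain ⟨L, hL, hprod, hc⟩ := Φ.orbit s hs
    obtain ⟨c, hcmem, hcell⟩ := A.mul_cell_mem L hL (Φ.ι a) (A.U_le_B hu)
    rw [hprod] at hcell
    set g : ↥(fixedPts σ) := Φ.nf.n s * u * Φ.nf.n a
    obtain ⟨x, hx, h, hh, w, v, hv, e⟩ := A.exists_eq g.1
    have hwc : w = c * Φ.ι a :=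
      A.index_eq hx hh hv (by rw [← e]; exact hcell)
    obtain ⟨h1, h2, h3, h4⟩ := (Φ.compat.fixed_iff hx hh hv).1 (e ▸ g.2)
    have hτc : Φ.compat.τ c = c := by
      have := h1
      rw [hwc, Φ.τ_mul, Φ.τ_ι] at this
      exact mul_right_cancel this
    have mk : ∀ a' : W', Φ.ι a' = w → InCell (A.U.subgroupOf _) (A.H.subgroupOf _) (Φ.nf.n a') g := by
      intro a' ha'
      subst ha'
      exact ⟨⟨x, h2⟩, hx, ⟨h, h3⟩, hh, ⟨v, h4⟩, A.Uw_le _ hv, 1, one_mem _,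
        Subtype.ext (by simp [nf, e])⟩
    rcases hc c hcmem hτc with rfl | rfl
    · exact Or.inr (mk a (by rw [hwc, one_mul]))
    · exact Or.inl (mk (s * a) (by rw [hwc, map_mul]))

end Folding

end Cfsg.Agent.H37.Tits
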