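import Cfsg.Agent.H37.Tits.Ambient

/-!
Change of representatives and transport along an isomorphism of a split Tits system.
-/
set_option autoImplicit false

namespace Cfsg.Agent.H37.Tits

variable {G G' W : Type*} [Group G] [Group G'] [Group W]

theorem inCell_left_mul {U H : Subgroup G} (hU : ∀ h ∈ H, ∀ u ∈ U, h * u * h⁻¹ ∈ U) {n k g : G}
    (hk : k ∈ H) (h : InCell U H n g) : InCell U H (k * n) g := by
  obtain ⟨u, hu, a, ha, u', hu', b, hb, rfl⟩ := h
  exact ⟨u, hu, a * k⁻¹, mul_mem ha (inv_mem hk), u', hu', b, hb, by group⟩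

namespace Ambient

variable (A : Ambient G W)

/-- Replace the representatives by others in the same cosets of `H`. -/
def changeRep (m : W → G) (hm : ∀ w, ∃ k ∈ A.H, m w = k * A.n w) (h1 : m 1 = 1) :
    Ambient G W where
  U := A.U
  H := A.H
  n := m
  Uw := A.Uw
  exists_eq g := by
    obtain ⟨u, hu, h, hh, w, v, hv, rfl⟩ := A.exists_eq g
    obtain ⟨k, hk, e⟩ := hm w
    exact ⟨u, hu, h * k⁻¹, mul_mem hh (inv_mem hk), w, v, hv, by rw [e]; group⟩
  unique := by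
    intro u u' h h' v v' w w' hu hu' hh hh' hv hv' e
    obtain ⟨k, hk, ek⟩ := hm w
    obtain ⟨k', hk', ek'⟩ := hm w'
    rw [ek, ek', show u * h * (k * A.n w) * v = u * (h * k) * A.n w * v by group,
      show u' * h' * (k' * A.n w') * v' = u' * (h' * k') * A.n w' * v' by group] at e
    obtain ⟨rfl, rfl, e2, rfl⟩ := A.unique hu hu' (mul_mem hh hk) (mul_mem hh' hk') hv hv' e
    have : k = k' := mul_right_cancel (ek.symm.trans ek')
    subst this
    exact ⟨rfl, rfl, mul_right_cancel e2, rfl⟩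
  S := A.S
  closure_S := A.closure_S
  sq_S := A.sq_S
  n_one := h1
  n_mul a b := by
    obtain ⟨k, hk, ea⟩ := hm a
    obtain ⟨l, hl, eb⟩ := hm b
    obtain ⟨j, hj, eab⟩ := hm (a * b)
    obtain ⟨h, hh, e⟩ := A.n_mul a b
    refine ⟨k * (A.n a * l * (A.n a)⁻¹) * h * j⁻¹,
      mul_mem (mul_mem (mul_mem hk (A.n_conj_H a l hl)) hh) (inv_mem hj), ?_⟩
    calc m a * m b = k * (A.n a * l * (A.n a)⁻¹) * (A.n a * A.n b) := by rw [ea, eb]; group
      _ = _ := by rw [e, eab]; group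
  n_conj_H w h hh := by
    obtain ⟨k, hk, e⟩ := hm w
    rw [e, show k * A.n w * h * (k * A.n w)⁻¹ = k * (A.n w * h * (A.n w)⁻¹) * k⁻¹ by group]
    exact mul_mem (mul_mem hk (A.n_conj_H w h hh)) (inv_mem hk)
  H_conj_U := A.H_conj_U
  Uw_le := A.Uw_le
  Uw_one := A.Uw_one
  Uw_S_ne := A.Uw_S_ne
  cell_step s hs u hu w := by
    obtain ⟨k, hk, es⟩ := hm s
    obtain ⟨l, hl, ew⟩ := hm w
    obtain ⟨j, hj, esw⟩ := hm (s * w)
    have hb : u * l ∈ A.B := ⟨u, hu, l, hl, rfl⟩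
    have e : m s * u * m w = k * (A.n s * (u * l) * A.n w) := by rw [es, ew]; group
    have hkB : k ∈ A.B := A.H_le_B hk
    rcases A.step hs w hb with h | h
    · left
      obtain ⟨b, hb, c, hc, e1⟩ := A.inCell_iff.1 h
      rw [e, esw]
      exact inCell_left_mul A.H_conj_U hj
        (A.inCell_iff.2 ⟨k * b, mul_mem hkB hb, c, hc, by rw [e1]; group⟩)
    · right
      obtain ⟨b, hb, c, hc, e1⟩ := A.inCell_iff.1 h
      rw [e, ew]
      exact inCell_left_mul A.H_conj_U hl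
        (A.inCell_iff.2 ⟨k * b, mul_mem hkB hb, c, hc, by rw [e1]; group⟩)

/-- Transport along an isomorphism. -/
def map (e : G ≃* G') : Ambient G' W where
  U := A.U.map e.toMonoidHom
  H := A.H.map e.toMonoidHom
  n w := e (A.n w)
  Uw w := (A.Uw w).map e.toMonoidHom
  exists_eq g := by
    obtain ⟨u, hu, h, hh, w, v, hv, eq⟩ := A.exists_eq (e.symm g)
    refine ⟨e u, ⟨u, hu, rfl⟩, e h, ⟨h, hh, rfl⟩, w, e v, ⟨v, hv, rfl⟩, ?_⟩
    rw [← map_mul, ← map_mul, ← map_mul, ← eq, MulEquiv.apply_symm_apply]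
  unique := by
    rintro _ _ _ _ _ _ w w' ⟨u, hu, rfl⟩ ⟨u', hu', rfl⟩ ⟨h, hh, rfl⟩ ⟨h', hh', rfl⟩ ⟨v, hv, rfl⟩
      ⟨v', hv', rfl⟩ eq
    simp only [MulEquiv.coe_toMonoidHom, ← map_mul] at eq
    obtain ⟨rfl, rfl, rfl, rfl⟩ := A.unique hu hu' hh hh' hv hv' (e.injective eq)
    exact ⟨rfl, rfl, rfl, rfl⟩
  S := A.S
  closure_S := A.closure_S
  sq_S := A.sq_S
  n_one := by rw [A.n_one, map_one]
  n_mul a b := by
    obtain ⟨h, hh, eq⟩ := A.n_mul a b
    exact ⟨e h, ⟨h, hh, rfl⟩, by rw [← map_mul, eq, map_mul]⟩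
  n_conj_H := by
    rintro w _ ⟨h, hh, rfl⟩
    exact ⟨_, A.n_conj_H w h hh, by simp⟩
  H_conj_U := by
    rintro _ ⟨h, hh, rfl⟩ _ ⟨u, hu, rfl⟩
    exact ⟨_, A.H_conj_U h hh u hu, by simp⟩
  Uw_le w := Subgroup.map_mono (A.Uw_le w)
  Uw_one := by rw [A.Uw_one, Subgroup.map_bot]
  Uw_S_ne s hs h := A.Uw_S_ne s hs
    ((Subgroup.map_eq_bot_iff_of_injective _ e.injective).1 h)
  cell_step := by
    rintro s hs _ ⟨u, hu, rfl⟩ w
    have hm : ∀ n g, InCell A.U A.H n g →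
        InCell (A.U.map e.toMonoidHom) (A.H.map e.toMonoidHom) (e n) (e g) := by
      rintro n g ⟨u, hu, h, hh, u', hu', h', hh', rfl⟩
      exact ⟨e u, ⟨u, hu, rfl⟩, e h, ⟨h, hh, rfl⟩, e u', ⟨u', hu', rfl⟩, e h', ⟨h', hh', rfl⟩,
        by simp⟩
    have := A.cell_step s hs u hu w
    show InCell _ _ (e (A.n (s * w))) (e (A.n s) * e u * e (A.n w)) ∨ _
    rw [← map_mul, ← map_mul]
    refine this.imp (hm _ _) fun h => ?_
    show InCell _ _ (e (A.n w)) (e (A.n s) * e u * e (A.n w))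
    rw [← map_mul, ← map_mul]
    exact hm _ _ h

theorem map_B (e : G ≃* G') : (A.map e).B = A.B.map e.toMonoidHom := by
  rw [B_eq_sup, B_eq_sup, Subgroup.map_sup]
  rfl

theorem map_N (e : G ≃* G') : (A.map e).N = A.N.map e.toMonoidHom := by
  ext g
  constructor
  · rintro ⟨_, ⟨h, hh, rfl⟩, w, rfl⟩
    exact ⟨h * A.n w, ⟨h, hh, w, rfl⟩, by simp [map]⟩
  · rintro ⟨_, ⟨h, hh, w, rfl⟩, rfl⟩
    exact ⟨e h, ⟨h, hh, rfl⟩, w, by simp [map]⟩

theorem n_inj {a b : W} {h k : G} (hh : h ∈ A.H) (hk : k ∈ A.H) (e : h * A.n a = k * A.n b) :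
    a = b :=
  (A.unique (one_mem _) (one_mem _) hh hk (one_mem (A.Uw a)) (one_mem (A.Uw b))
    (show 1 * h * A.n a * 1 = 1 * k * A.n b * 1 by simpa using e)).1

/-- The homomorphism of `N` onto the Weyl group. -/
noncomputable def weylHom : ↥A.N →* W where
  toFun g := g.2.choose_spec.2.choose
  map_one' := by
    have e := (1 : ↥A.N).2.choose_spec.2.choose_spec
    exact A.n_inj (h := (1 : ↥A.N).2.choose) (k := 1) (1 : ↥A.N).2.choose_spec.1 (one_mem _)
      (by rw [← e, A.n_one]; simp)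
  map_mul' a b := by
    have hab := (a * b).2.choose_spec
    have ha := a.2.choose_spec
    have hb := b.2.choose_spec
    obtain ⟨k, hk, e⟩ := A.n_mul ha.2.choose hb.2.choose
    refine A.n_inj hab.1
      (mul_mem (mul_mem ha.1 (A.n_conj_H ha.2.choose _ hb.1)) hk) ?_
    rw [← hab.2.choose_spec, Subgroup.coe_mul]
    conv_lhs => rw [ha.2.choose_spec, hb.2.choose_spec]
    rw [mul_assoc _ k, ← e]
    group

theorem weylHom_spec (g : ↥A.N) : ∃ h ∈ A.H, (g : G) = h * A.n (A.weylHom g) :=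
  ⟨_, g.2.choose_spec.1, g.2.choose_spec.2.choose_spec⟩

theorem weylHom_surjective : Function.Surjective A.weylHom := fun w => by
  obtain ⟨h, hh, e⟩ := A.weylHom_spec ⟨A.n w, A.n_mem_N w⟩
  exact ⟨⟨A.n w, A.n_mem_N w⟩, (A.n_inj hh (one_mem _) (by rw [← e, one_mul]))⟩

theorem weylHom_ker : A.weylHom.ker = A.H.subgroupOf A.N := by
  ext g
  obtain ⟨h, hh, e⟩ := A.weylHom_spec g
  rw [MonoidHom.mem_ker, Subgroup.mem_subgroupOf]
  constructor
  · intro h1
    rw [e, h1, A.n_one, mul_one]; exact hh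
  · intro hg
    exact A.n_inj hh hg (by rw [A.n_one, mul_one, ← e])

end Ambient

end Cfsg.Agent.H37.Tits
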